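import Mathlib
import Cfsg.Agent.Lib.Helper24.J2Ord.Defs

/-! Congruence modulo `⟨z⟩` and the subgroup `D h` (S3313 farm). -/

set_option autoImplicit false
set_option linter.unusedSectionVars false

namespace Cfsg.Agent.Lib.Helper54.J2Ord

open Cfsg.Agent.Lib.Helper24.J2Ord

variable {H : Type*} [Group H] {Q K : Subgroup H} {z : H}

/-- congruence modulo `{1, z}` -/
def Rz (z a b : H) : Prop := a = b ∨ a = b * z

theorem Rz.refl (z a : H) : Rz z a a := Or.inl rfl

theorem Rz.of_eq {z a b : H} (h : a = b) : Rz z a b := Or.inl h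

theorem zinv (c : Cfg H Q K z) : z⁻¹ = z := inv_eq_of_mul_eq_one_right c.z2

theorem Rz.symm (c : Cfg H Q K z) {a b : H} (h : Rz z a b) : Rz z b a := by
  rcases h with rfl | rfl
  · exact Or.inl rfl
  · right
    rw [mul_assoc, c.z2, mul_one]

theorem Rz.mul (c : Cfg H Q K z) {a b a' b' : H} (h : Rz z a b) (h' : Rz z a' b') :
    Rz z (a * a') (b * b') := by
  rcases h with h | h <;> rcases h' with h' | h' <;> rw [h, h']
  · exact Or.inl rfl
  · right
    rw [mul_assoc]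
  · right
    rw [mul_assoc, ← c.zc b', mul_assoc]
  · left
    rw [mul_assoc, ← mul_assoc z, ← c.zc b', mul_assoc b', c.z2, mul_one]

theorem Rz.trans (c : Cfg H Q K z) {a b d : H} (h : Rz z a b) (h' : Rz z b d) : Rz z a d := by
  rcases h with rfl | rfl
  · exact h'
  · rcases h' with rfl | rfl
    · exact Or.inr rfl
    · left
      rw [mul_assoc, c.z2, mul_one]

theorem Rz.inv (c : Cfg H Q K z) {a b : H} (h : Rz z a b) : Rz z a⁻¹ b⁻¹ := by
  rcases h with rfl | rfl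
  · exact Or.inl rfl
  · right
    rw [mul_inv_rev, zinv c, c.zc]

theorem Rz.conj (c : Cfg H Q K z) {a b : H} (h : Rz z a b) (g : H) :
    Rz z (g * a * g⁻¹) (g * b * g⁻¹) :=
  (Rz.mul c (Rz.mul c (Rz.refl z g) h) (Rz.refl z g⁻¹))

theorem Rz.comm (c : Cfg H Q K z) {a b : H} (ha : a ∈ Q) (hb : b ∈ Q) : Rz z (a * b) (b * a) :=
  c.comm a ha b hb

theorem Rz.inv_self (c : Cfg H Q K z) {a : H} (ha : a ∈ Q) : Rz z a⁻¹ a := by
  rcases c.sq a ha with h | h
  · left
    exact inv_eq_of_mul_eq_one_right h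
  · right
    rw [← h, ← mul_assoc]
    apply inv_eq_of_mul_eq_one_right
    have : a * (a * a * a) = (a * a) * (a * a) := by group
    rw [this, h, c.z2]

theorem Rz.mul_z (z a e : H) (he : e = 1 ∨ e = z) : Rz z (a * e) a := by
  rcases he with rfl | rfl
  · left
    rw [mul_one]
  · exact Or.inr rfl

theorem mem_D {h b : H} : b ∈ D Q z h ↔ b ∈ Q ∧ Rz z (h * b * h⁻¹) b := Iff.rfl

/-- `D h` as a subgroup -/
def Dsub (c : Cfg H Q K z) (h : H) : Subgroup H where
  carrier := D Q z h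
  one_mem' := ⟨Q.one_mem, Or.inl (by group)⟩
  mul_mem' := by
    rintro a b ⟨ha, ha'⟩ ⟨hb, hb'⟩
    refine ⟨Q.mul_mem ha hb, ?_⟩
    have e : h * (a * b) * h⁻¹ = (h * a * h⁻¹) * (h * b * h⁻¹) := by group
    have := Rz.mul c ha' hb'
    rw [← e] at this
    exact this
  inv_mem' := by
    rintro a ⟨ha, ha'⟩
    refine ⟨Q.inv_mem ha, ?_⟩
    have e : h * a⁻¹ * h⁻¹ = (h * a * h⁻¹)⁻¹ := by group
    have := Rz.inv c ha'
    rw [← e] at this
    exact this

theorem mem_Dsub (c : Cfg H Q K z) {h b : H} : b ∈ Dsub c h ↔ b ∈ D Q z h := Iff.rfl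

theorem Dsub_le (c : Cfg H Q K z) (h : H) : Dsub c h ≤ Q := fun _ hb => hb.1

theorem card_Dsub (c : Cfg H Q K z) (h : H) : Nat.card (Dsub c h) = (D Q z h).ncard := rfl

theorem z_mem_D (c : Cfg H Q K z) (h : H) : z ∈ D Q z h :=
  ⟨c.zQ, Or.inl (by rw [c.zc h, mul_inv_cancel_right])⟩

theorem ncard_eq_filter [Fintype H] (S : Set H) [DecidablePred (· ∈ S)] :
    S.ncard = (Finset.univ.filter (· ∈ S)).card := by
  rw [← Set.ncard_coe_finset]
  congr 1
  ext x
  simp

end Cfsg.Agent.Lib.Helper54.J2Ord
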