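import Mathlib
import Cfsg.Agent.Lib.Helper24.J2Ord.Defs
import Cfsg.Agent.Lib.Helper54.J2Ord.Basic

/-! Piece [E6a] of the S3313 farm. -/

set_option autoImplicit false
set_option linter.unusedSectionVars false

namespace Cfsg.Agent.Lib.Helper54.J2Ord

open Cfsg.Agent.Lib.Helper24.J2Ord

variable {H : Type*} [Group H] [Finite H] {Q K : Subgroup H} {z : H}

/-- the commutator map -/
def cc (k x : H) : H := x⁻¹ * (k * x * k⁻¹)

theorem cc_mem (c : Cfg H Q K z) (k : H) {x : H} (hx : x ∈ Q) : cc k x ∈ Q :=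
  Q.mul_mem (Q.inv_mem hx) (c.nQ k x hx)

theorem cc_inv {k : H} (hk : k * k = 1) (x : H) : k * cc k x * k⁻¹ = (cc k x)⁻¹ := by
  have hki : k⁻¹ = k := inv_eq_of_mul_eq_one_right hk
  unfold cc
  rw [hki]
  have e1 : k * (x⁻¹ * (k * x * k)) * k = k * x⁻¹ * k * x * (k * k) := by group
  have e2 : (x⁻¹ * (k * x * k))⁻¹ = k⁻¹ * x⁻¹ * k⁻¹ * x := by group
  rw [e1, e2, hk, hki, mul_one]

theorem cc_mul (c : Cfg H Q K z) (k : H) {w x : H} (hw : w ∈ Q) (hx : x ∈ Q) :
    Rz z (cc k (w * x)) (cc k w * cc k x) := by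
  have e : cc k (w * x) = (x⁻¹ * (cc k w * x)) * cc k x := by
    unfold cc
    group
  rw [e]
  refine Rz.mul c ?_ (Rz.refl z _)
  have h1 := Rz.mul c (Rz.refl z x⁻¹) (Rz.comm c (cc_mem c k hw) hx)
  rwa [inv_mul_cancel_left] at h1

theorem mem_D_of_cc (c : Cfg H Q K z) (k : H) {x y : H} (hx : x ∈ Q) (hy : y ∈ Q)
    (h : Rz z (cc k y) (cc k x)) : y * x⁻¹ ∈ D Q z k := by
  have hw : y * x⁻¹ ∈ Q := Q.mul_mem hy (Q.inv_mem hx)
  refine ⟨hw, ?_⟩
  have h1 := cc_mul c k hw hx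
  rw [inv_mul_cancel_right] at h1
  have h2 : Rz z (cc k (y * x⁻¹) * cc k x) (cc k x) := Rz.trans c (Rz.symm c h1) h
  have h3 := Rz.mul c h2 (Rz.refl z (cc k x)⁻¹)
  rw [mul_inv_cancel_right, mul_inv_cancel] at h3
  have h4 := Rz.mul c (Rz.refl z (y * x⁻¹)) h3
  rw [mul_one] at h4
  have e : y * x⁻¹ * cc k (y * x⁻¹) = k * (y * x⁻¹) * k⁻¹ := by
    unfold cc
    group
  rwa [e] at h4

/-- [E6a] -/
theorem D_ge (c : Cfg H Q K z) (k : H) (hk : k * k = 1) :
    8 ≤ (D Q z k).ncard ∧ ((D Q z k).ncard = 8 → ∀ b ∈ D Q z k, k * b * k⁻¹ = b⁻¹) := by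
  classical
  have := Fintype.ofFinite H
  rw [ncard_eq_filter (D Q z k)]
  set Df := Finset.univ.filter (· ∈ D Q z k) with hDf
  set Qf := Finset.univ.filter (· ∈ (Q : Set H)) with hQf
  set Invf := Finset.univ.filter (fun b : H => b ∈ Q ∧ k * b * k⁻¹ = b⁻¹) with hInvf
  have hQc : Qf.card = 32 := by
    rw [hQf, ← ncard_eq_filter (Q : Set H)]
    exact c.cardQ
  have hZc : ({1, z} : Finset H).card = 2 := Finset.card_pair (Ne.symm c.z1)
  have hsc : (Qf ×ˢ ({1, z} : Finset H)).card = 64 := by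
    rw [Finset.card_product, hQc, hZc]
  have himg : (Qf ×ˢ ({1, z} : Finset H)).image (fun p => cc k p.1 * p.2) ⊆ Invf := by
    intro y hy
    obtain ⟨⟨x, e⟩, hp, rfl⟩ := Finset.mem_image.mp hy
    rw [Finset.mem_product] at hp
    have hx : x ∈ Q := by simpa [hQf] using hp.1
    have he : e = 1 ∨ e = z := by simpa using hp.2
    rw [hInvf, Finset.mem_filter]
    refine ⟨Finset.mem_univ _, ?_, ?_⟩
    · rcases he with rfl | rfl
      · exact Q.mul_mem (cc_mem c k hx) Q.one_mem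
      · exact Q.mul_mem (cc_mem c k hx) c.zQ
    · have e1 : k * (cc k x * e) * k⁻¹ = (k * cc k x * k⁻¹) * (k * e * k⁻¹) := by group
      show k * (cc k x * e) * k⁻¹ = (cc k x * e)⁻¹
      rw [e1, cc_inv hk]
      rcases he with rfl | rfl
      · group
      · rw [c.zc k, mul_inv_cancel_right, mul_inv_rev, zinv c, c.zc]
  have hInvD : Invf ⊆ Df := by
    intro b hb
    rw [hInvf, Finset.mem_filter] at hb
    rw [hDf, Finset.mem_filter]
    refine ⟨Finset.mem_univ _, hb.2.1, ?_⟩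
    show Rz z (k * b * k⁻¹) b
    rw [hb.2.2]
    exact Rz.inv_self c hb.2.1
  have hfib : ∀ y ∈ (Qf ×ˢ ({1, z} : Finset H)).image (fun p => cc k p.1 * p.2),
      ((Qf ×ˢ ({1, z} : Finset H)).filter (fun p => cc k p.1 * p.2 = y)).card ≤ Df.card := by
    intro y hy
    obtain ⟨⟨x0, e0⟩, hp0, rfl⟩ := Finset.mem_image.mp hy
    rw [Finset.mem_product] at hp0
    have hx0 : x0 ∈ Q := by simpa [hQf] using hp0.1
    have he0 : e0 = 1 ∨ e0 = z := by simpa using hp0.2
    apply Finset.card_le_card_of_injOn (fun p => p.1 * x0⁻¹)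
    · intro p hp
      have hp' := Finset.mem_filter.mp (Finset.mem_coe.mp hp)
      have hp1 := Finset.mem_product.mp hp'.1
      have hx : p.1 ∈ Q := by simpa [hQf] using hp1.1
      have he : p.2 = 1 ∨ p.2 = z := by simpa using hp1.2
      have hR : Rz z (cc k p.1) (cc k x0) := by
        have r1 := Rz.symm c (Rz.mul_z z (cc k p.1) p.2 he)
        have r2 := Rz.mul_z z (cc k x0) e0 he0
        exact Rz.trans c r1 (Rz.trans c (Rz.of_eq hp'.2) r2)
      have := mem_D_of_cc c k hx0 hx hR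
      simpa [hDf] using this
    · intro p hp p' hp' hpp
      have h1 := (Finset.mem_filter.mp (Finset.mem_coe.mp hp)).2
      have h2 := (Finset.mem_filter.mp (Finset.mem_coe.mp hp')).2
      have e1 : p.1 = p'.1 := mul_right_cancel hpp
      have e2 : p.2 = p'.2 := by
        rw [← h2, e1] at h1
        exact mul_left_cancel h1
      exact Prod.ext e1 e2
  have hmain := Finset.card_le_mul_card_image (Qf ×ˢ ({1, z} : Finset H)) Df.card hfib
  rw [hsc] at hmain
  have h1 := Finset.card_le_card himg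
  have h2 := Finset.card_le_card hInvD
  have h3 : 64 ≤ Df.card * Invf.card := hmain.trans (Nat.mul_le_mul_left _ h1)
  constructor
  · by_contra hlt
    push Not at hlt
    have : Df.card * Invf.card ≤ 7 * 7 := Nat.mul_le_mul (by omega) (by omega)
    omega
  · intro h8 b hb
    rw [h8] at h3
    have h4 : Df.card ≤ Invf.card := by omega
    have heq := Finset.eq_of_subset_of_card_le hInvD h4
    have hbD : b ∈ Df := by simpa [hDf] using hb
    rw [← heq, hInvf, Finset.mem_filter] at hbD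
    exact hbD.2.2

end Cfsg.Agent.Lib.Helper54.J2Ord
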