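import Mathlib
import Cfsg.Agent.Lib.Helper24.J2Ord.Defs
import Cfsg.Agent.Lib.Helper24.J2Ord.E2
import Cfsg.Agent.Lib.Helper54.J2Ord.Basic
import Cfsg.Agent.Lib.Helper54.J2Ord.E6a

/-! Piece [E6b] of the S3313 farm. -/

set_option autoImplicit false
set_option linter.unusedSectionVars false

namespace Cfsg.Agent.Lib.Helper54.J2Ord

open Cfsg.Agent.Lib.Helper24.J2Ord

theorem card_mul_card_le_E6b {G : Type*} [Group G] [Finite G] (A B Q : Subgroup G) (hA : A ≤ Q)
    (hB : B ≤ Q) : Nat.card A * Nat.card B ≤ Nat.card (A ⊓ B : Subgroup G) * Nat.card Q := by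
  have h1 : Nat.card A * A.relIndex Q = Nat.card Q := by
    have := Subgroup.relIndex_mul_relIndex ⊥ A Q bot_le hA
    rwa [Subgroup.relIndex_bot_left, Subgroup.relIndex_bot_left] at this
  have h2 : Nat.card B * B.relIndex Q = Nat.card Q := by
    have := Subgroup.relIndex_mul_relIndex ⊥ B Q bot_le hB
    rwa [Subgroup.relIndex_bot_left, Subgroup.relIndex_bot_left] at this
  have h3 : Nat.card (A ⊓ B : Subgroup G) * (A ⊓ B).relIndex Q = Nat.card Q := by
    have := Subgroup.relIndex_mul_relIndex ⊥ (A ⊓ B) Q bot_le (inf_le_left.trans hA)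
    rwa [Subgroup.relIndex_bot_left, Subgroup.relIndex_bot_left] at this
  have h4 : (A ⊓ B).relIndex Q ≤ A.relIndex Q * B.relIndex Q := Subgroup.relIndex_inf_le
  have hQ : 0 < Nat.card Q := Nat.card_pos
  have h5 : Nat.card A * Nat.card B * Nat.card Q
      ≤ Nat.card (A ⊓ B : Subgroup G) * Nat.card Q * Nat.card Q := by
    calc Nat.card A * Nat.card B * Nat.card Q
        = Nat.card A * Nat.card B * (Nat.card (A ⊓ B : Subgroup G) * (A ⊓ B).relIndex Q) := by
          rw [h3]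
      _ ≤ Nat.card A * Nat.card B * (Nat.card (A ⊓ B : Subgroup G)
            * (A.relIndex Q * B.relIndex Q)) :=
          Nat.mul_le_mul_left _ (Nat.mul_le_mul_left _ h4)
      _ = Nat.card (A ⊓ B : Subgroup G) * (Nat.card A * A.relIndex Q)
            * (Nat.card B * B.relIndex Q) := by ring
      _ = _ := by rw [h1, h2]
  exact Nat.le_of_mul_le_mul_right h5 hQ

variable {H : Type*} [Group H] [Finite H] {Q K : Subgroup H} {z : H}

/-- [E6b] -/
theorem D_le (c : Cfg H Q K z) (k : H) (hkK : k ∈ K) (hk : k * k = 1) (hk1 : k ≠ 1) :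
    (D Q z k).ncard ≤ 8 := by
  obtain ⟨k', hk'K, hk', _, h5⟩ := c.K5 k hkK hk hk1
  have hgQ : k * k' ∉ Q := by
    intro hQ
    have := c.KQ' _ (K.mul_mem hkK hk'K) hQ
    rw [this, orderOf_one] at h5
    omega
  have hinf : ∀ b ∈ (Dsub c k ⊓ Dsub c k' : Subgroup H), b = 1 ∨ b = z := by
    intro b hb
    obtain ⟨⟨hbQ, h1⟩, ⟨_, h2⟩⟩ := Subgroup.mem_inf.mp hb
    apply fix5 c (k * k') h5 hgQ b hbQ
    have e : k * k' * b * (k * k')⁻¹ = k * (k' * b * k'⁻¹) * k⁻¹ := by group
    have h3 : Rz z (k * k' * b * (k * k')⁻¹) b := by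
      rw [e]
      exact Rz.trans c (Rz.conj c h2 k) h1
    exact h3
  have hc2 : Nat.card (Dsub c k ⊓ Dsub c k' : Subgroup H) ≤ 2 := by
    classical
    have hsub : ((Dsub c k ⊓ Dsub c k' : Subgroup H) : Set H) ⊆ (({1, z} : Finset H) : Set H) := by
      intro b hb
      have := hinf b hb
      simpa using this
    have h1 := Set.ncard_le_ncard hsub (Finset.finite_toSet _)
    rw [Set.ncard_coe_finset] at h1
    exact h1.trans (Finset.card_le_two)
  have hprod := card_mul_card_le_E6b _ _ Q (Dsub_le c k) (Dsub_le c k')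
  rw [card_Dsub, card_Dsub, c.cardQ] at hprod
  have h8 := (D_ge c k' hk').1
  by_contra hlt
  push Not at hlt
  have h9 : 9 * 8 ≤ (D Q z k).ncard * (D Q z k').ncard := Nat.mul_le_mul hlt h8
  have h10 : Nat.card (Dsub c k ⊓ Dsub c k' : Subgroup H) * 32 ≤ 2 * 32 :=
    Nat.mul_le_mul_right _ hc2
  omega

end Cfsg.Agent.Lib.Helper54.J2Ord
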