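import Mathlib
import Cfsg.Agent.Lib.Helper24.J2Ord.Defs
import Cfsg.Agent.Lib.Helper24.J2Ord.E1
import Cfsg.Agent.Lib.Helper54.J2Ord.Basic
import Cfsg.Agent.Lib.Helper54.J2Ord.E4
import Cfsg.Agent.Lib.Helper54.J2Ord.E6a
import Cfsg.Agent.Lib.Helper54.J2Ord.E6b

/-! Piece [E5] of the S3313 farm. -/

set_option autoImplicit false
set_option linter.unusedSectionVars false

namespace Cfsg.Agent.Lib.Helper54.J2Ord

open Cfsg.Agent.Lib.Helper24.J2Ord

variable {H : Type*} [Group H] [Finite H] {Q K : Subgroup H} {z : H}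

/-- [E5] -/
theorem card_I_D (c : Cfg H Q K z) (k : H) (hkK : k ∈ K) (hk : k * k = 1) (hk1 : k ≠ 1) :
    (I Q z ∩ D Q z k).ncard = 2 ∧ ∀ a ∈ D Q z k, ∀ b ∈ D Q z k, a * b = b * a := by
  classical
  have := Fintype.ofFinite H
  have h8 : (D Q z k).ncard = 8 := le_antisymm (D_le c k hkK hk hk1) (D_ge c k hk).1
  have hinv := (D_ge c k hk).2 h8
  have hab : ∀ a ∈ D Q z k, ∀ b ∈ D Q z k, a * b = b * a := by
    intro a ha b hb
    have h1 := hinv (a * b) ((Dsub c k).mul_mem ha hb)
    have e : k * (a * b) * k⁻¹ = (k * a * k⁻¹) * (k * b * k⁻¹) := by group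
    rw [e, hinv a ha, hinv b hb, ← mul_inv_rev] at h1
    exact (inv_injective h1).symm
  refine ⟨?_, hab⟩
  rw [ncard_eq_filter (D Q z k)] at h8
  set Df := Finset.univ.filter (· ∈ D Q z k) with hDf
  have hmemD : ∀ x, x ∈ Df ↔ x ∈ D Q z k := by
    intro x
    simp [hDf]
  set Tf := Df.filter (fun a => a * a = 1) with hTf
  have hge : 4 ≤ Tf.card := by
    by_cases hall : ∀ b ∈ Df, b * b = 1
    · have : Tf = Df := Finset.filter_true_of_mem hall
      rw [this, h8]
      norm_num
    · push Not at hall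
      obtain ⟨a0, ha0, ha0'⟩ := hall
      have ha0D := (hmemD a0).mp ha0
      have ha0z : a0 * a0 = z := (c.sq a0 ha0D.1).resolve_left ha0'
      have hsplit := Finset.card_filter_add_card_filter_not (s := Df) (fun a => a * a = 1)
      have hle : (Df.filter (fun a => ¬ a * a = 1)).card ≤ Tf.card := by
        apply Finset.card_le_card_of_injOn (fun b => b * a0)
        · intro b hb
          have hb' := Finset.mem_filter.mp (Finset.mem_coe.mp hb)
          have hbD := (hmemD b).mp hb'.1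
          have hbz : b * b = z := (c.sq b hbD.1).resolve_left hb'.2
          rw [Finset.mem_coe, hTf, Finset.mem_filter]
          refine ⟨(hmemD _).mpr ((Dsub c k).mul_mem hbD ha0D), ?_⟩
          rw [sq_mul_comm (hab b hbD a0 ha0D), hbz, ha0z, c.z2]
        · intro b _ b' _ h
          exact mul_right_cancel h
      have hsplit' : Tf.card + (Df.filter (fun a => ¬ a * a = 1)).card = 8 := by
        rw [← h8]
        exact hsplit
      omega
  have hle : Tf.card ≤ 4 := by
    by_contra hlt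
    push Not at hlt
    obtain ⟨a, haT, haZ⟩ := Finset.exists_mem_notMem_of_card_lt_card
      (s := ({1, z} : Finset H)) (t := Tf) (lt_of_le_of_lt Finset.card_le_two (by omega))
    obtain ⟨b, hbT, hbZ⟩ := Finset.exists_mem_notMem_of_card_lt_card
      (s := ({1, z, a, a * z} : Finset H)) (t := Tf) (lt_of_le_of_lt Finset.card_le_four hlt)
    simp only [Finset.mem_insert, Finset.mem_singleton, not_or] at haZ hbZ
    have ha' := Finset.mem_filter.mp haT
    have hb' := Finset.mem_filter.mp hbT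
    have haD := (hmemD a).mp ha'.1
    have hbD := (hmemD b).mp hb'.1
    rcases comm_I c a ⟨haD.1, ha'.2, haZ.1, haZ.2⟩ b ⟨hbD.1, hb'.2, hbZ.1, hbZ.2.1⟩
      (hab a haD b hbD) with h | h
    · exact hbZ.2.2.1 h
    · exact hbZ.2.2.2 h
  have hset : I Q z ∩ D Q z k = ((Tf \ {1, z} : Finset H) : Set H) := by
    ext x
    simp only [Set.mem_inter_iff, Finset.coe_sdiff, Set.mem_sdiff, Finset.mem_coe, hTf,
      Finset.mem_filter, hmemD, Finset.coe_insert, Finset.coe_singleton, Set.mem_insert_iff,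
      Set.mem_singleton_iff, not_or]
    constructor
    · rintro ⟨⟨_, h2, h3, h4⟩, hD⟩
      exact ⟨⟨hD, h2⟩, h3, h4⟩
    · rintro ⟨⟨hD, h2⟩, h3, h4⟩
      exact ⟨⟨hD.1, h2, h3, h4⟩, hD⟩
  have hsub : ({1, z} : Finset H) ⊆ Tf := by
    intro x hx
    rw [Finset.mem_insert, Finset.mem_singleton] at hx
    rw [hTf, Finset.mem_filter, hmemD]
    rcases hx with rfl | rfl
    · exact ⟨(Dsub c k).one_mem, one_mul 1⟩
    · exact ⟨z_mem_D c k, c.z2⟩
  rw [hset, Set.ncard_coe_finset, Finset.card_sdiff_of_subset hsub,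
    Finset.card_pair (Ne.symm c.z1)]
  omega

end Cfsg.Agent.Lib.Helper54.J2Ord
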